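import Mathlib

/-!
# S3620 (Marggraf), quasiprimitive reduction (Theorem Q of the lead's paper proof): definitions
-/

set_option autoImplicit false

namespace Cfsg.Agent.Lib.Helper58.MGQ

/-- elementwise Jordan set: the pointwise stabiliser of the complement of `Γ` is transitive on `Γ` -/
def JorE (G : Type*) {Ω : Type*} [Group G] [MulAction G Ω] (Γ : Set Ω) : Prop :=
  ∀ x ∈ Γ, ∀ y ∈ Γ, ∃ g : G, (∀ z, z ∉ Γ → g • z = z) ∧ g • x = y

/-- quasiprimitive -/
def QP (G : Type*) (Ω : Type*) [Group G] [MulAction G Ω] : Prop :=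
  ∀ N : Subgroup G, N.Normal → N ≠ ⊥ → MulAction.IsPretransitive ↥N Ω

/-- every even permutation is induced -/
def AltIn (G : Type*) (Ω : Type*) [Group G] [MulAction G Ω] [Fintype Ω] [DecidableEq Ω] : Prop :=
  ∀ σ : Equiv.Perm Ω, Equiv.Perm.sign σ = 1 → ∃ x : G, (MulAction.toPerm x : Equiv.Perm Ω) = σ

/-- equivariant quotient data -/
structure Quo (G : Type*) {Ω Y : Type*} [Group G] [MulAction G Ω] [MulAction G Y] (π : Ω → Y) : Prop where
  equiv : ∀ (g : G) (ω : Ω), π (g • ω) = g • π ω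
  surj : Function.Surjective π
  ninj : ∃ w w' : Ω, w ≠ w' ∧ π w = π w'
  ntriv : ∃ w w' : Ω, π w ≠ π w'

end Cfsg.Agent.Lib.Helper58.MGQ
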